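import Groth.Agent.Lib.MorSAff4.Basic

/-!
# Representability on affine objects, through Weil restriction of rings
-/

universe u

open CategoryTheory CategoryTheory.Limits AlgebraicGeometry TensorProduct Opposite

set_option backward.isDefEq.respectTransparency.types false

noncomputable section

namespace Groth.Agent.MorSAff4

variable {Z X S : Scheme.{u}} [IsAffine Z] [IsAffine X] [IsAffine S] (g : Z ⟶ S) (f : X ⟶ S)

instance algT (T : Over S) : Algebra Γ(S, ⊤) Γ(T.left, ⊤) := T.hom.appTop.hom.toAlgebra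

/-- The comparison `B' ⊗ Γ(T) ⟶ Γ(T ×_S Z)`. -/
def k (T : Over S) :
    letI := g.appTop.hom.toAlgebra
    CommRingCat.of (Γ(Z, ⊤) ⊗[Γ(S, ⊤)] Γ(T.left, ⊤)) ⟶ Γ(pullback T.hom g, ⊤) :=
  letI := g.appTop.hom.toAlgebra
  (CommRingCat.isPushout_tensorProduct Γ(S, ⊤) Γ(Z, ⊤) Γ(T.left, ⊤)).desc
    (pullback.snd T.hom g).appTop (pullback.fst T.hom g).appTop (by
      show g.appTop ≫ (pullback.snd T.hom g).appTop = T.hom.appTop ≫ (pullback.fst T.hom g).appTop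
      rw [← Scheme.Hom.comp_appTop, ← Scheme.Hom.comp_appTop, pullback.condition])

theorem k_left (T : Over S) :
    letI := g.appTop.hom.toAlgebra
    CommRingCat.ofHom (Algebra.TensorProduct.includeLeftRingHom (R := Γ(S, ⊤)) (A := Γ(Z, ⊤))
      (B := Γ(T.left, ⊤))) ≫ k g T = (pullback.snd T.hom g).appTop :=
  letI := g.appTop.hom.toAlgebra
  IsPushout.inl_desc _ _ _ _

theorem k_right (T : Over S) :
    letI := g.appTop.hom.toAlgebra
    CommRingCat.ofHom (Algebra.TensorProduct.includeRight (R := Γ(S, ⊤)) (A := Γ(Z, ⊤))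
      (B := Γ(T.left, ⊤))).toRingHom ≫ k g T = (pullback.fst T.hom g).appTop :=
  letI := g.appTop.hom.toAlgebra
  IsPushout.inr_desc _ _ _ _

theorem isIso_k (T : Over S) [IsAffine T.left] : IsIso (k g T) := by
  letI := g.appTop.hom.toAlgebra
  have h1 := isPushout_appTop_of_isPullback (IsPullback.of_hasPullback T.hom g)
  have h2 := CommRingCat.isPushout_tensorProduct Γ(S, ⊤) Γ(Z, ⊤) Γ(T.left, ⊤)
  have : k g T = (h2.isoIsPushout _ _ h1.flip).hom := h2.hom_ext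
    ((k_left g T).trans (IsPushout.inl_isoIsPushout_hom _ _ h2 h1.flip).symm)
    ((k_right g T).trans (IsPushout.inr_isoIsPushout_hom _ _ h2 h1.flip).symm)
  rw [this]
  infer_instance

/-- An algebra map between global sections. -/
def secMap {T T' : Over S} (a : T' ⟶ T) : Γ(T.left, ⊤) →ₐ[Γ(S, ⊤)] Γ(T'.left, ⊤) :=
  { a.left.appTop.hom with
    commutes' := fun b => by
      show (T.hom.appTop ≫ a.left.appTop) b = T'.hom.appTop b
      rw [← Scheme.Hom.comp_appTop, Over.w a] }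

theorem k_natural {T T' : Over S} (a : T' ⟶ T) :
    letI := g.appTop.hom.toAlgebra
    CommRingCat.ofHom (WeilRes21.bcMap Γ(S, ⊤) Γ(Z, ⊤) (secMap a)).toRingHom ≫ k g T' =
      k g T ≫ ((Over.pullback g).map a).left.appTop := by
  letI := g.appTop.hom.toAlgebra
  refine (CommRingCat.isPushout_tensorProduct Γ(S, ⊤) Γ(Z, ⊤) Γ(T.left, ⊤)).hom_ext ?_ ?_
  · rw [← Category.assoc, ← Category.assoc, k_left, ← CommRingCat.ofHom_comp]
    refine Eq.trans (congrArg (· ≫ k g T') (congrArg CommRingCat.ofHom (RingHom.ext fun z => ?_) :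
      _ = CommRingCat.ofHom (Algebra.TensorProduct.includeLeftRingHom (R := Γ(S, ⊤)) (A := Γ(Z, ⊤))
        (B := Γ(T'.left, ⊤))))) ?_
    · show z ⊗ₜ secMap a 1 = z ⊗ₜ 1
      rw [map_one]
    · rw [k_left, ← Scheme.Hom.comp_appTop]
      congr 1
      exact (pullback.lift_snd _ _ _).symm
  · rw [← Category.assoc, ← Category.assoc, k_right, ← CommRingCat.ofHom_comp]
    refine Eq.trans (congrArg (· ≫ k g T') (congrArg CommRingCat.ofHom (RingHom.ext fun z => ?_) :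
      _ = a.left.appTop ≫ CommRingCat.ofHom (Algebra.TensorProduct.includeRight (R := Γ(S, ⊤))
        (A := Γ(Z, ⊤)) (B := Γ(T'.left, ⊤))).toRingHom)) ?_
    · rfl
    · show (a.left.appTop ≫ CommRingCat.ofHom (Algebra.TensorProduct.includeRight (R := Γ(S, ⊤))
        (A := Γ(Z, ⊤)) (B := Γ(T'.left, ⊤))).toRingHom) ≫ k g T' = _
      rw [Category.assoc, k_right, ← Scheme.Hom.comp_appTop, ← Scheme.Hom.comp_appTop]
      congr 1
      exact (pullback.lift_fst _ _ _).symm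

theorem exists_rep (hfree : letI := g.appTop.hom.toAlgebra
      Module.Finite Γ(S, ⊤) Γ(Z, ⊤) ∧ Module.Projective Γ(S, ⊤) Γ(Z, ⊤)) :
    ∃ W : Over S, IsAffine W.left ∧ Nonempty ((Flatn.morS g f).RepresentableBy W) := by
  letI := g.appTop.hom.toAlgebra
  haveI := hfree.1
  haveI := hfree.2
  letI : Algebra Γ(S, ⊤) Γ(X, ⊤) := f.appTop.hom.toAlgebra
  let B : Type u := Γ(S, ⊤)
  let B' : Type u := Γ(Z, ⊤)
  let A' : Type u := Γ(Z, ⊤) ⊗[Γ(S, ⊤)] Γ(X, ⊤)
  let R : Type u := WeilRes21.Ring Γ(S, ⊤) Γ(Z, ⊤) A'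
  let iR : CommRingCat.of R ≅ Γ(Spec (CommRingCat.of R), ⊤) := (Scheme.ΓSpecIso (CommRingCat.of R)).symm
  let W : Over S := Over.mk
    (ofRingHom (CommRingCat.ofHom (algebraMap Γ(S, ⊤) R) ≫ iR.hom) : Spec (CommRingCat.of R) ⟶ S)
  haveI : IsAffine W.left := inferInstanceAs (IsAffine (Spec _))
  have hW : W.hom.appTop = CommRingCat.ofHom (algebraMap Γ(S, ⊤) R) ≫ iR.hom := ofRingHom_appTop _
  let ρ : R →ₐ[Γ(S, ⊤)] Γ(W.left, ⊤) :=
    { iR.hom.hom with
      commutes' := fun b => by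
        show _ = W.hom.appTop b
        rw [hW]
        rfl }
  haveI : IsAffine (Over.mk f).left := ‹IsAffine X›
  let incl : Γ(X, ⊤) →ₐ[Γ(S, ⊤)] A' := Algebra.TensorProduct.includeRight
  -- from a map of rings to a morphism over `S`
  have hcond : ∀ (T : Over S) (χ : Γ(X, ⊤) →ₐ[Γ(S, ⊤)] Γ(Z, ⊤) ⊗[Γ(S, ⊤)] Γ(T.left, ⊤)),
      ofRingHom (CommRingCat.ofHom χ.toRingHom ≫ k g T) ≫ f = pullback.snd T.hom g ≫ g := by
    intro T χ
    apply ext_of_isAffine
    rw [Scheme.Hom.comp_appTop, Scheme.Hom.comp_appTop, ofRingHom_appTop, ← k_left g T, ← Category.assoc,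
      ← Category.assoc]
    congr 1
    ext b
    show χ (algebraMap Γ(S, ⊤) Γ(X, ⊤) b) = algebraMap Γ(S, ⊤) Γ(Z, ⊤) b ⊗ₜ 1
    rw [AlgHom.commutes]
    rfl
  let mk : ∀ (T : Over S) (χ : Γ(X, ⊤) →ₐ[Γ(S, ⊤)] Γ(Z, ⊤) ⊗[Γ(S, ⊤)] Γ(T.left, ⊤)),
      (Flatn.morS g f).obj (op T) := fun T χ =>
    Over.homMk (ofRingHom (CommRingCat.ofHom χ.toRingHom ≫ k g T)) (hcond T χ)
  let univ' : Γ(X, ⊤) →ₐ[Γ(S, ⊤)] Γ(Z, ⊤) ⊗[Γ(S, ⊤)] Γ(W.left, ⊤) :=
    ((WeilRes21.bcMap Γ(S, ⊤) Γ(Z, ⊤) ρ).restrictScalars Γ(S, ⊤)).comp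
      (((WeilRes21.univ Γ(S, ⊤) Γ(Z, ⊤) A').restrictScalars Γ(S, ⊤)).comp incl)
  refine ⟨W, inferInstance, representableBy_of_affine g f W (mk W univ') fun T hT => ?_⟩
  haveI := hT
  haveI := isIso_k g T
  let toψ : (T ⟶ W) → (R →ₐ[Γ(S, ⊤)] Γ(T.left, ⊤)) := fun φ => (secMap φ).comp ρ
  have hΦ : ∀ φ : T ⟶ W, ((Flatn.morS g f).map φ.op (mk W univ')).left.appTop =
      CommRingCat.ofHom (((WeilRes21.homEquiv Γ(S, ⊤) Γ(Z, ⊤) A' (toψ φ)).restrictScalars Γ(S, ⊤)).comp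
        incl).toRingHom ≫ k g T := by
    intro φ
    rw [Flatn.morS_map]
    show (((Over.pullback g).map φ).left ≫ ofRingHom (CommRingCat.ofHom univ'.toRingHom ≫ k g W)).appTop = _
    rw [Scheme.Hom.comp_appTop, ofRingHom_appTop, Category.assoc, ← k_natural, ← Category.assoc]
    congr 1
    rw [← CommRingCat.ofHom_comp]
    congr 1
    refine RingHom.ext fun x => ?_
    show WeilRes21.bcMap Γ(S, ⊤) Γ(Z, ⊤) (secMap φ) (univ' x) = _
    rw [WeilRes21.homEquiv_apply, ← WeilRes21.bcMap_comp]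
    rfl
  constructor
  · intro φ φ' he
    have h1 : CommRingCat.ofHom (((WeilRes21.homEquiv Γ(S, ⊤) Γ(Z, ⊤) A' (toψ φ)).restrictScalars Γ(S, ⊤)).comp
        incl).toRingHom = CommRingCat.ofHom (((WeilRes21.homEquiv Γ(S, ⊤) Γ(Z, ⊤) A' (toψ φ')).restrictScalars
        Γ(S, ⊤)).comp incl).toRingHom := by
      rw [← cancel_mono (k g T), ← hΦ, ← hΦ]
      exact congrArg (fun b => b.left.appTop) he
    have h2 : WeilRes21.homEquiv Γ(S, ⊤) Γ(Z, ⊤) A' (toψ φ) = WeilRes21.homEquiv Γ(S, ⊤) Γ(Z, ⊤) A' (toψ φ') := by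
      refine Algebra.TensorProduct.ext (AlgHom.ext fun z => ?_) (AlgHom.ext fun x => congr($h1 x))
      exact ((WeilRes21.homEquiv Γ(S, ⊤) Γ(Z, ⊤) A' (toψ φ)).commutes z).trans
        ((WeilRes21.homEquiv Γ(S, ⊤) Γ(Z, ⊤) A' (toψ φ')).commutes z).symm
    have h3 := (WeilRes21.homEquiv Γ(S, ⊤) Γ(Z, ⊤) A').injective h2
    apply Over.OverMorphism.ext
    apply ext_of_isAffine
    rw [← cancel_epi iR.hom]
    exact CommRingCat.hom_ext (RingHom.ext fun r => AlgHom.congr_fun h3 r)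
  · intro b
    let bl : pullback T.hom g ⟶ X := b.left
    have hb : bl ≫ f = pullback.snd T.hom g ≫ g := Over.w b
    let χ₀ := bl.appTop ≫ inv (k g T)
    let χ : Γ(X, ⊤) →ₐ[Γ(S, ⊤)] Γ(Z, ⊤) ⊗[Γ(S, ⊤)] Γ(T.left, ⊤) :=
      { χ₀.hom with
        commutes' := fun s => by
          have h1 : f.appTop ≫ χ₀ = g.appTop ≫ CommRingCat.ofHom (Algebra.TensorProduct.includeLeftRingHom
              (R := Γ(S, ⊤)) (A := Γ(Z, ⊤)) (B := Γ(T.left, ⊤))) := by
            rw [← cancel_mono (k g T)]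
            simp only [χ₀, Category.assoc, k_left, IsIso.inv_hom_id, Category.comp_id]
            rw [← Scheme.Hom.comp_appTop, ← Scheme.Hom.comp_appTop, hb]
          exact congr($h1 s) }
    let χ' : A' →ₐ[Γ(Z, ⊤)] Γ(Z, ⊤) ⊗[Γ(S, ⊤)] Γ(T.left, ⊤) :=
      Algebra.TensorProduct.lift (Algebra.ofId _ _) χ fun _ _ => Commute.all _ _
    let ψ := (WeilRes21.homEquiv Γ(S, ⊤) Γ(Z, ⊤) A').symm χ'
    let φl : T.left ⟶ Spec (CommRingCat.of R) := ofRingHom (iR.inv ≫ CommRingCat.ofHom ψ.toRingHom)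
    have hφ : φl ≫ W.hom = T.hom := by
      apply ext_of_isAffine
      rw [Scheme.Hom.comp_appTop, ofRingHom_appTop, hW, Category.assoc, Iso.hom_inv_id_assoc]
      exact CommRingCat.hom_ext ψ.comp_algebraMap
    let φ : T ⟶ W := Over.homMk φl hφ
    have hψ : toψ φ = ψ := by
      refine AlgHom.ext fun r => ?_
      show (iR.hom ≫ φl.appTop) r = ψ r
      rw [ofRingHom_appTop, Iso.hom_inv_id_assoc]
      rfl
    refine ⟨φ, Over.OverMorphism.ext (ext_of_isAffine ?_)⟩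
    rw [hΦ, hψ, Equiv.apply_symm_apply]
    show _ = bl.appTop
    have h2 : CommRingCat.ofHom ((χ'.restrictScalars Γ(S, ⊤)).comp incl).toRingHom = χ₀ :=
      CommRingCat.hom_ext (RingHom.ext fun x => by
        show χ' ((1 : Γ(Z, ⊤)) ⊗ₜ x) = χ x
        rw [Algebra.TensorProduct.lift_tmul, map_one, one_mul])
    rw [h2, Category.assoc, IsIso.inv_hom_id, Category.comp_id]

end Groth.Agent.MorSAff4

end
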