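import Groth.Agent.Lib.WeilRes21.Ring
import Groth.Prelude.Def_Flatn
import Mathlib.AlgebraicGeometry.Morphisms.Affine
import Mathlib.Algebra.Category.Ring.Constructions

/-!
# Relative morphisms from a finite free affine scheme into an affine scheme are representable
-/

universe u

open CategoryTheory CategoryTheory.Limits AlgebraicGeometry TensorProduct Opposite

set_option backward.isDefEq.respectTransparency.types false

namespace Groth.Agent.MorSAff4

/-- The morphism into an affine scheme given by a map on global sections. -/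
noncomputable def ofRingHom {T Y : Scheme.{u}} [IsAffine Y] (ψ : Γ(Y, ⊤) ⟶ Γ(T, ⊤)) : T ⟶ Y :=
  T.toSpecΓ ≫ Spec.map ψ ≫ Y.isoSpec.inv

theorem ofRingHom_appTop {T Y : Scheme.{u}} [IsAffine Y] (ψ : Γ(Y, ⊤) ⟶ Γ(T, ⊤)) :
    (ofRingHom ψ).appTop = ψ := by
  have h : Y.isoSpec.inv.appTop = (Scheme.ΓSpecIso Γ(Y, ⊤)).inv := by
    have : IsIso Y.isoSpec.hom.appTop := inferInstanceAs (IsIso (Scheme.Γ.map Y.isoSpec.hom.op))
    rw [← cancel_mono Y.isoSpec.hom.appTop, ← Scheme.Hom.comp_appTop, Iso.hom_inv_id]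
    simp [Scheme.isoSpec]
  rw [ofRingHom, Scheme.Hom.comp_appTop, Scheme.Hom.comp_appTop, h, Scheme.toSpecΓ_appTop, Category.assoc,
    Scheme.ΓSpecIso_naturality, Iso.inv_hom_id_assoc]

variable {Z X S : Scheme.{u}} [IsAffine Z] [IsAffine X] [IsAffine S] (g : Z ⟶ S) (f : X ⟶ S)

/-- A representing family: a universal element with the bijection on affine objects. -/
theorem representableBy_of_affine (W : Over S) (u : (Flatn.morS g f).obj (op W))
    (h : ∀ T : Over S, IsAffine T.left →
      Function.Bijective fun φ : T ⟶ W => (Flatn.morS g f).map φ.op u) :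
    Nonempty ((Flatn.morS g f).RepresentableBy W) := by
  let Φ : ∀ T : Over S, (T ⟶ W) → (Flatn.morS g f).obj (op T) := fun T φ => (Flatn.morS g f).map φ.op u
  have hnat : ∀ {T T' : Over S} (a : T' ⟶ T) (φ : T ⟶ W),
      Φ T' (a ≫ φ) = (Flatn.morS g f).map a.op (Φ T φ) := fun a φ => by
    show (Flatn.morS g f).map (a ≫ φ).op u = _
    rw [op_comp, Functor.map_comp]
    rfl
  -- restriction along a cover is injective on sections
  have hsep : ∀ (T : Over S) (𝒰 : T.left.OpenCover) (b b' : (Flatn.morS g f).obj (op T)),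
      (∀ i, (Flatn.morS g f).map (Over.homMk (𝒰.f i) rfl : Over.mk (𝒰.f i ≫ T.hom) ⟶ T).op b =
        (Flatn.morS g f).map (Over.homMk (𝒰.f i) rfl : Over.mk (𝒰.f i ≫ T.hom) ⟶ T).op b') → b = b' := by
    intro T 𝒰 b b' hb
    apply Over.OverMorphism.ext
    refine Scheme.Cover.hom_ext (𝒰.pullback₁ (pullback.fst T.hom g)) _ _ fun i => ?_
    let e := IsPullback.of_hasPullback (pullback.fst T.hom g) (𝒰.f i)
    let l : pullback (pullback.fst T.hom g) (𝒰.f i) ⟶ pullback (𝒰.f i ≫ T.hom) g :=
      pullback.lift (pullback.snd _ _) (pullback.fst _ _ ≫ pullback.snd T.hom g) (by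
        rw [← pullback.condition_assoc, pullback.condition, Category.assoc])
    have hl : (𝒰.pullback₁ (pullback.fst T.hom g)).f i =
        l ≫ ((Over.map g).map ((Over.pullback g).map
          (Over.homMk (𝒰.f i) rfl : Over.mk (𝒰.f i ≫ T.hom) ⟶ T))).left := by
      show pullback.fst (pullback.fst T.hom g) (𝒰.f i) = l ≫ pullback.lift _ _ _
      apply pullback.hom_ext
      · rw [Category.assoc, pullback.lift_fst, ← Category.assoc]
        exact pullback.condition.trans (congrArg (· ≫ 𝒰.f i)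
          (pullback.lift_fst (f := 𝒰.f i ≫ T.hom) (g := g) _ _ _).symm)
      · rw [Category.assoc, pullback.lift_snd]
        exact (pullback.lift_snd (f := 𝒰.f i ≫ T.hom) (g := g) _ _ _).symm
    rw [hl]
    exact (Category.assoc _ _ _).trans
      ((congrArg (l ≫ ·) (congrArg CommaMorphism.left (hb i))).trans (Category.assoc _ _ _).symm)
  have hinj : ∀ T, Function.Injective (Φ T) := by
    intro T φ φ' he
    let 𝒰 := T.left.affineCover
    apply Over.OverMorphism.ext
    refine Scheme.Cover.hom_ext 𝒰 _ _ fun i => ?_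
    let a : Over.mk (𝒰.f i ≫ T.hom) ⟶ T := Over.homMk (𝒰.f i) rfl
    have := (h (Over.mk (𝒰.f i ≫ T.hom)) (inferInstanceAs (IsAffine (𝒰.X i)))).1
      (a₁ := a ≫ φ) (a₂ := a ≫ φ') (by
        show Φ _ (a ≫ φ) = Φ _ (a ≫ φ')
        rw [hnat, hnat, he])
    exact congrArg CommaMorphism.left this
  have hsurj : ∀ T, Function.Surjective (Φ T) := by
    intro T b
    let 𝒰 := T.left.affineCover
    let a : ∀ i, Over.mk (𝒰.f i ≫ T.hom) ⟶ T := fun i => Over.homMk (𝒰.f i) rfl
    choose s hs using fun i => (h (Over.mk (𝒰.f i ≫ T.hom)) (inferInstanceAs (IsAffine (𝒰.X i)))).2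
      ((Flatn.morS g f).map (a i).op b)
    have hglue : ∀ i j, pullback.fst (𝒰.f i) (𝒰.f j) ≫ (s i).left =
        pullback.snd (𝒰.f i) (𝒰.f j) ≫ (s j).left := by
      intro i j
      let P : Over S := Over.mk (pullback.fst (𝒰.f i) (𝒰.f j) ≫ 𝒰.f i ≫ T.hom)
      let p₁ : P ⟶ Over.mk (𝒰.f i ≫ T.hom) := Over.homMk (pullback.fst _ _) rfl
      let p₂ : P ⟶ Over.mk (𝒰.f j ≫ T.hom) := Over.homMk (pullback.snd _ _) (by
        show pullback.snd _ _ ≫ 𝒰.f j ≫ T.hom = _
        rw [← pullback.condition_assoc]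
        rfl)
      have hp : p₁ ≫ a i = p₂ ≫ a j := Over.OverMorphism.ext pullback.condition
      have := hinj P (a₁ := p₁ ≫ s i) (a₂ := p₂ ≫ s j) (by
        rw [hnat, hnat]
        show (Flatn.morS g f).map p₁.op ((Flatn.morS g f).map (s i).op u) =
          (Flatn.morS g f).map p₂.op ((Flatn.morS g f).map (s j).op u)
        rw [show (Flatn.morS g f).map (s i).op u = _ from hs i,
          show (Flatn.morS g f).map (s j).op u = _ from hs j, ← types_comp_apply ((Flatn.morS g f).map (a i).op),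
          ← types_comp_apply ((Flatn.morS g f).map (a j).op), ← Functor.map_comp, ← Functor.map_comp, ← op_comp,
          ← op_comp, hp])
      exact congrArg CommaMorphism.left this
    let v := 𝒰.glueMorphisms (fun i => (s i).left) hglue
    have hv : ∀ i, 𝒰.f i ≫ v = (s i).left := 𝒰.ι_glueMorphisms _ hglue
    let φ : T ⟶ W := Over.homMk v (Scheme.Cover.hom_ext 𝒰 _ _ fun i => by
      rw [← Category.assoc, hv]
      exact Over.w (s i))
    refine ⟨φ, hsep T 𝒰 _ _ fun i => ?_⟩
    rw [← hnat, show a i ≫ φ = s i from Over.OverMorphism.ext (hv i)]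
    exact hs i
  exact ⟨{
    homEquiv := fun {T} => Equiv.ofBijective (Φ T) ⟨hinj T, hsurj T⟩
    homEquiv_comp := fun a φ => hnat a φ }⟩

end Groth.Agent.MorSAff4
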